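import Cfsg.Agent.CpAutTwD.Row
import Cfsg.Agent.H290.ElReg

/-!
# S5745: the module of dimension 8 of `³D₄(q)`, `q` even (helper148)
-/

set_option autoImplicit false

namespace Cfsg.Agent.H148.EK

open Cfsg Cfsg.Agent.H290.ElReg

/-- `³D₄(q)` has a faithful representation of degree `8` in characteristic 2 -/
theorem fth_td4_eight {K : Type} [Field K] [Fintype K] [CharP K 2] (q : ℕ) : Fth 8 K ↥(Lie.twistedD4 K q) := by
  obtain ⟨ρ, hρ, -⟩ := Cfsg.Agent.CpAutTwD.Emb.exists_rho (F := K) (CharP.cast_eq_zero K 2) (q := q)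
  have h6 := Fth.of hρ
  simpa using h6

end Cfsg.Agent.H148.EK
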